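import Cfsg.Agent.Lib.UnitaryCent.Iso
import Cfsg.Agent.Lib.SuzukiTwo.UnitarySixty

/-!
The centraliser of an involution in `PSU(3,4)`.
-/

set_option autoImplicit false
set_option linter.unusedSectionVars false

namespace CfsgLib.UnitaryCent

open Matrix CfsgLib.PSUBorel
open scoped commutatorElement

variable {F : Type*} [Field F] [Fintype F]

theorem exists_concrete (h16 : Fintype.card F = 16) :
    ∃ (t : Cfsg.PSU 3 F 4) (D : Subgroup (Subgroup.centralizer ({t} : Set (Cfsg.PSU 3 F 4))))
      (x : Subgroup.centralizer ({t} : Set (Cfsg.PSU 3 F 4))),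
      orderOf t = 2 ∧ Ext (Subgroup.centralizer ({t} : Set (Cfsg.PSU 3 F 4))) D x := by
  classical
  haveI : Fact (Nat.Prime 2) := ⟨Nat.prime_two⟩
  haveI : Fact (Nat.Prime 5) := ⟨by norm_num⟩
  haveI : CharP F 2 := charP_of_card_eq_prime_pow (f := 4) (by rw [h16]; norm_num)
  have hK : Fintype.card F = 4 ^ 2 := by rw [h16]; norm_num
  obtain ⟨-, σ, hσ⟩ := CfsgLib.UnitaryBasic.frob_exists hK
  let c : Conj F := ⟨4, σ, hK, hσ⟩
  have hσ4 : ∀ a : F, c.σ a = a ^ 4 := hσ
  obtain ⟨E⟩ := exists_iso c (n := 3)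
  have hcen1 : Subgroup.center (Cfsg.SU 3 F 4) = ⊥ := by
    rw [← Subgroup.card_eq_one, Cfsg.Agent.S0280.center_card hK 3 (by norm_num)]
    norm_num
  have hbij : Function.Bijective (QuotientGroup.mk' (Subgroup.center (Cfsg.SU 3 F 4))) :=
    ⟨(MonoidHom.ker_eq_bot_iff _).mp (by rw [QuotientGroup.ker_mk', hcen1]), QuotientGroup.mk'_surjective _⟩
  let E' : SUs c 3 ≃* Cfsg.PSU 3 F 4 := E.trans (MulEquiv.ofBijective _ hbij)
  have hcov : Cover c 2 E'.toMonoidHom := by
    refine ⟨E'.surjective, fun z hz => ?_, 1, by decide, fun z hz => ?_⟩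
    · rw [show z = 1 from E'.injective ((MonoidHom.mem_ker.mp hz).trans (map_one E').symm)]
      exact one_mem _
    · rw [pow_one]
      exact E'.injective ((MonoidHom.mem_ker.mp hz).trans (map_one E').symm)
  obtain ⟨U, hU⟩ := exists_sylow c 2 hcov
  let eU : UU c 3 ≃* (U : Subgroup (Cfsg.PSU 3 F 4)) :=
    ((UU c 3).equivMapOfInjective E'.toMonoidHom E'.injective).trans (MulEquiv.subgroupCongr hU.symm)
  have hS := CfsgLib.SuzukiTwo.sixty h16 U
  -- the involution
  have h2 : (2 : F) = 0 := CharTwo.two_eq_zero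
  let t₀ : SUs c 3 := r3 c 0 1 (by simp [CharTwo.add_self_eq_zero])
  have hone : t₀ ≠ 1 := fun he => by
    have := congrArg (fun A : SUs c 3 => A.1.1 0 2) he
    simp [t₀, r3, m3] at this
  have ht2 : t₀ * t₀ = 1 := SUs_ext c (by
    show m3 c.σ 0 1 * m3 c.σ 0 1 = 1
    ext i j
    fin_cases i <;> fin_cases j <;> simp [m3, Matrix.mul_apply, Fin.sum_univ_three, CharTwo.add_self_eq_zero])
  set t := E' t₀ with htd
  have ht : orderOf t = 2 := by
    rw [htd, MulEquiv.orderOf_eq]
    exact orderOf_eq_prime (by rw [pow_two]; exact ht2) hone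
  set C₀ := Subgroup.centralizer ({t₀} : Set (SUs c 3)) with hC₀
  have hCmem : ∀ A : SUs c 3, A ∈ C₀ ↔ A.1.1 1 0 = 0 ∧ A.1.1 2 0 = 0 ∧ A.1.1 2 1 = 0 ∧ A.1.1 0 0 = A.1.1 2 2 := by
    intro A
    rw [Subgroup.mem_centralizer_singleton_iff]
    constructor
    · intro he
      have h : A.1.1 * m3 c.σ 0 1 = m3 c.σ 0 1 * A.1.1 := congrArg (fun B : SUs c 3 => B.1.1) he
      have e12 := congrFun (congrFun h 1) 2
      have e22 := congrFun (congrFun h 2) 2
      have e01 := congrFun (congrFun h 0) 1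
      have e02 := congrFun (congrFun h 0) 2
      simp [m3, Matrix.mul_apply, Fin.sum_univ_three] at e12 e22 e01 e02
      refine ⟨e12, e22, ?_, ?_⟩
      · linear_combination e01
      · linear_combination e02
    · rintro ⟨a, b, d, e⟩
      apply SUs_ext c
      show A.1.1 * m3 c.σ 0 1 = m3 c.σ 0 1 * A.1.1
      ext i j
      fin_cases i <;> fin_cases j <;> simp [m3, Matrix.mul_apply, Fin.sum_univ_three, a, b, d, e]
      ring
  have hdiag : ∀ A : C₀, A.1.1.1 0 0 ^ 5 = 1 ∧ A.1.1.1 0 0 * A.1.1.1 1 1 * A.1.1.1 0 0 = 1 := by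
    intro A
    obtain ⟨a, b, d, e⟩ := (hCmem A.1).mp A.2
    have h02 := cond_apply c A.1.2 (0 : Fin 3) 2
    rw [Fin.sum_univ_three, show (0 : Fin 3).rev = 2 from rfl, show (1 : Fin 3).rev = 1 from rfl,
      show (2 : Fin 3).rev = 0 from rfl, if_pos rfl] at h02
    change _ * c.σ _ + _ * c.σ _ + _ * c.σ _ = _ at h02
    rw [d, b, map_zero, mul_zero, mul_zero, add_zero, add_zero, ← e, hσ4] at h02
    refine ⟨by linear_combination h02, ?_⟩
    have hd := A.1.1.2
    rw [Matrix.det_fin_three, a, b, d, ← e] at hd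
    linear_combination hd
  let δ : C₀ →* Fˣ := MonoidHom.toHomUnits
    { toFun := fun A => A.1.1.1 0 0
      map_one' := by simp
      map_mul' := fun A B => by
        obtain ⟨a, b, -, -⟩ := (hCmem B.1).mp B.2
        show (A.1.1.1 * B.1.1.1) 0 0 = _
        simp [Matrix.mul_apply, Fin.sum_univ_three, a, b] }
  let D₀ : Subgroup C₀ := (UU c 3).subgroupOf C₀
  have hUC : UU c 3 ≤ C₀ := fun A hA => (hCmem A).mpr
    ⟨UU_below c hA (show (0 : Fin 3) < 1 by decide), UU_below c hA (show (0 : Fin 3) < 2 by decide),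
      UU_below c hA (show (1 : Fin 3) < 2 by decide), (UU_diag c hA 0).trans (UU_diag c hA 2).symm⟩
  have hker : δ.ker = D₀ := by
    ext A
    rw [MonoidHom.mem_ker, Units.ext_iff]
    show A.1.1.1 0 0 = 1 ↔ A.1 ∈ UU c 3
    constructor
    · intro h00
      obtain ⟨a, b, d, e⟩ := (hCmem A.1).mp A.2
      have h11 := (hdiag A).2
      rw [h00, one_mul, mul_one] at h11
      refine ⟨fun i j hij => ?_, fun i j hij => ?_⟩
      · fin_cases i <;> fin_cases j <;> first | exact a | exact b | exact d | (exfalso; simp at hij)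
      · obtain rfl : i = j := Fin.ext hij
        rw [Matrix.one_apply_eq]
        fin_cases i
        · exact h00
        · exact h11
        · exact e.symm.trans h00
    · intro hh
      exact UU_diag c hh 0
  have hcardD : Nat.card D₀ = 64 := by
    rw [Nat.card_congr (Subgroup.subgroupOfEquivOfLe hUC).toEquiv, Nat.card_congr eU.toEquiv]
    exact hS.card
  -- the torus element
  obtain ⟨w, hw⟩ := exists_prime_orderOf_dvd_card' (G := Fˣ) 5
    (by rw [Nat.card_units, Nat.card_eq_fintype_card, h16]; norm_num)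
  set ω : F := (w : F) with hω
  have hω5 : ω ^ 5 = 1 := by
    have := pow_orderOf_eq_one w
    rw [hw] at this
    exact congrArg Units.val this
  let dm : Matrix (Fin 3) (Fin 3) F := !![ω, 0, 0; 0, ω ^ 3, 0; 0, 0, ω]
  let d₀ : SUs c 3 := ⟨⟨dm, by simp [dm, Matrix.det_fin_three]; linear_combination hω5⟩, by
    show Cond c dm
    ext i j
    rw [Matrix.mul_apply]
    simp only [mul_aJ]
    fin_cases i <;> fin_cases j <;> simp [dm, aJ, Fin.sum_univ_three, Fin.rev, hσ4]
    all_goals first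
      | linear_combination hω5
      | linear_combination (ω ^ 10 + ω ^ 5 + 1) * hω5⟩
  have hd₀ : d₀ ∈ C₀ := (hCmem d₀).mpr ⟨rfl, rfl, rfl, rfl⟩
  let x₀ : C₀ := ⟨d₀, hd₀⟩
  have hx5 : x₀ ^ 5 = 1 := by
    refine Subtype.ext (SUs_ext c ?_)
    show ((d₀ ^ 5 : SUs c 3)).1.1 = 1
    rw [pow_succ, pow_succ, pow_succ, pow_succ, pow_one, coe_mul, coe_mul, coe_mul, coe_mul]
    show dm * dm * dm * dm * dm = 1
    ext i j
    fin_cases i <;> fin_cases j <;> simp [dm, Matrix.mul_apply, Fin.sum_univ_three]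
    all_goals first
      | linear_combination hω5
      | linear_combination (ω ^ 10 + ω ^ 5 + 1) * hω5
  have hxD : x₀ ∉ D₀ := fun hh => by
    rw [← hker, MonoidHom.mem_ker] at hh
    have h0 : ω = 1 := congrArg Units.val hh
    have h1 : w = 1 := Units.ext h0
    rw [h1, orderOf_one] at hw
    norm_num at hw
  haveI hD₀n : D₀.Normal := hker ▸ MonoidHom.normal_ker δ
  have hcardC : Nat.card C₀ = 320 := by
    have h1 := Subgroup.card_mul_index δ.ker
    rw [Subgroup.index_ker, hker, hcardD] at h1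
    have h5 : ∀ z : δ.range, z ^ 5 = 1 := by
      rintro ⟨_, A, rfl⟩
      exact Subtype.ext (Units.ext (hdiag A).1)
    have hr : Nat.card δ.range ∣ 5 := by
      rw [← IsCyclic.exponent_eq_card (α := δ.range)]
      exact Monoid.exponent_dvd_of_forall_pow_eq_one h5
    have hr2 : Nat.card δ.range ≠ 1 := fun he => by
      have hmem : δ x₀ ∈ δ.range := ⟨x₀, rfl⟩
      rw [Subgroup.card_eq_one.mp he, Subgroup.mem_bot] at hmem
      exact hxD (hker ▸ hmem)
    rcases (Nat.dvd_prime (by norm_num : Nat.Prime 5)).mp hr with he | he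
    · exact absurd he hr2
    · rw [he] at h1; omega
  -- the automorphism
  let φ : MulAut D₀ := MulAut.conjNormal x₀
  let ψ : D₀ ≃* (U : Subgroup (Cfsg.PSU 3 F 4)) := (Subgroup.subgroupOfEquivOfLe hUC).trans eU
  have hZψ : ∀ g : D₀, g ∈ Subgroup.center D₀ ↔ ψ g ∈ Subgroup.center (U : Subgroup (Cfsg.PSU 3 F 4)) := by
    intro g
    rw [Subgroup.mem_center_iff, Subgroup.mem_center_iff]
    constructor
    · intro hh k
      obtain ⟨k, rfl⟩ := ψ.surjective k
      rw [← map_mul, hh k, map_mul]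
    · intro hh k
      exact ψ.injective (by rw [map_mul, map_mul, hh])
  have hshape : ∀ g : D₀, g.1.1.1.1 1 2 = -c.σ (g.1.1.1.1 0 1) := by
    intro g
    have hg : g.1.1 ∈ UU c 3 := g.2
    have h01 := cond_apply c g.1.1.2 (0 : Fin 3) 1
    rw [Fin.sum_univ_three, if_neg (by decide), show (0 : Fin 3).rev = 2 from rfl, show (1 : Fin 3).rev = 1 from rfl,
      show (2 : Fin 3).rev = 0 from rfl] at h01
    change _ * c.σ _ + _ * c.σ _ + _ * c.σ _ = _ at h01
    rw [UU_diag c hg 0, UU_diag c hg 1, UU_below c hg (show (0 : Fin 3) < 1 by decide), map_zero, map_one, one_mul,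
      mul_one, mul_zero, add_zero] at h01
    have h3 := congrArg c.σ h01
    rw [map_add, c.invol, map_zero] at h3
    linear_combination h3
  have hfix : ∀ g : D₀, φ g = g ↔ g ∈ Subgroup.center D₀ := by
    intro g
    have hg : g.1.1 ∈ UU c 3 := g.2
    have hcomm : φ g = g ↔ dm * g.1.1.1.1 = g.1.1.1.1 * dm := by
      rw [← Subtype.coe_inj, MulAut.conjNormal_apply, mul_inv_eq_iff_eq_mul]
      exact ⟨fun he => congrArg (fun A : C₀ => A.1.1.1) he, fun he => Subtype.ext (SUs_ext c he)⟩
    rw [hcomm]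
    constructor
    · intro he
      have h01 := congrFun (congrFun he 0) 1
      simp [dm, Matrix.mul_apply, Fin.sum_univ_three] at h01
      have ha : g.1.1.1.1 0 1 = 0 := by
        by_contra hne
        have h1 : ω = ω ^ 3 := mul_right_cancel₀ hne (h01.trans (mul_comm _ _))
        have hωne : ω ≠ 0 := w.ne_zero
        have h3 : ω ^ 2 = 1 := mul_left_cancel₀ hωne (by linear_combination -h1)
        have h4 : w ^ 2 = 1 := Units.ext h3
        have h5 := orderOf_dvd_of_pow_eq_one h4
        rw [hw] at h5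
        norm_num at h5
      have h12 : g.1.1.1.1 1 2 = 0 := by rw [hshape, ha, map_zero, neg_zero]
      rw [Subgroup.mem_center_iff]
      intro k
      have hk : k.1.1 ∈ UU c 3 := k.2
      refine Subtype.ext (Subtype.ext (SUs_ext c ?_))
      show k.1.1.1.1 * g.1.1.1.1 = g.1.1.1.1 * k.1.1.1.1
      ext i j
      fin_cases i <;> fin_cases j <;>
        simp [Matrix.mul_apply, Fin.sum_univ_three, ha, h12, UU_diag c hg, UU_diag c hk,
          UU_below c hg (show (0 : Fin 3) < 1 by decide), UU_below c hg (show (0 : Fin 3) < 2 by decide),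
          UU_below c hg (show (1 : Fin 3) < 2 by decide), UU_below c hk (show (0 : Fin 3) < 1 by decide),
          UU_below c hk (show (0 : Fin 3) < 2 by decide), UU_below c hk (show (1 : Fin 3) < 2 by decide)]
      ring
    · intro hc
      have hgg : g * g = 1 := ψ.injective (by rw [map_mul, map_one]; exact hS.cen _ ((hZψ g).mp hc))
      have h02 := congrArg (fun A : D₀ => A.1.1.1.1 0 2) hgg
      change (g.1.1.1.1 * g.1.1.1.1) 0 2 = (1 : Matrix (Fin 3) (Fin 3) F) 0 2 at h02
      rw [Matrix.mul_apply, Fin.sum_univ_three, UU_diag c hg, UU_diag c hg, hshape] at h02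
      rw [Matrix.one_apply_ne (by decide)] at h02
      have ha0 : g.1.1.1.1 0 1 * c.σ (g.1.1.1.1 0 1) = 0 := by
        linear_combination -h02 + g.1.1.1.1 0 2 * h2
      have ha : g.1.1.1.1 0 1 = 0 := by
        rcases mul_eq_zero.mp ha0 with hh | hh
        · exact hh
        · exact (map_eq_zero c.σ).mp hh
      have h12 : g.1.1.1.1 1 2 = 0 := by rw [hshape, ha, map_zero, neg_zero]
      ext i j
      fin_cases i <;> fin_cases j <;>
        simp [dm, Matrix.mul_apply, Fin.sum_univ_three, ha, h12, UU_diag c hg,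
          UU_below c hg (show (0 : Fin 3) < 1 by decide), UU_below c hg (show (0 : Fin 3) < 2 by decide),
          UU_below c hg (show (1 : Fin 3) < 2 by decide)]
      ring
  have hfive : Five D₀ φ := by
    refine ⟨hcardD, ?_, fun g => ?_, fun z hz => ?_, ?_, hfix, fun z hz hz1 hall => ?_⟩
    · rw [← hS.card_center]
      exact Nat.card_congr (Equiv.subtypeEquiv ψ.toEquiv hZψ)
    · rw [hZψ, map_mul]; exact hS.sq _
    · exact ψ.injective (by rw [map_mul, map_one]; exact hS.cen _ ((hZψ z).mp hz))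
    · show (MulAut.conjNormal x₀ : MulAut D₀) ^ 5 = 1
      rw [← map_pow, hx5, map_one]
    · obtain ⟨u, hu⟩ : ∃ u, u ∉ Subgroup.center (U : Subgroup (Cfsg.PSU 3 F 4)) := by
        by_contra hno
        push Not at hno
        have := Subgroup.card_le_of_le (show (⊤ : Subgroup (U : Subgroup (Cfsg.PSU 3 F 4))) ≤ _ from fun a _ => hno a)
        rw [Subgroup.card_top, hS.card, hS.card_center] at this
        omega
      obtain ⟨u, rfl⟩ := ψ.surjective u
      have hle : Subgroup.center (U : Subgroup (Cfsg.PSU 3 F 4)) ≤ Subgroup.zpowers (ψ z) := by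
        intro a ha
        obtain ⟨y, hy⟩ := hS.surj _ hu a ha
        obtain ⟨y, rfl⟩ := ψ.surjective y
        rw [← map_commutatorElement] at hy
        rcases hall.2 u y with he | he <;> rw [← hy, he]
        · rw [map_one]; exact one_mem _
        · exact Subgroup.mem_zpowers _
      have h4 := Subgroup.card_le_of_le hle
      have hz2 : orderOf (ψ z) = 2 := orderOf_eq_prime (by rw [pow_two]; exact hS.cen _ ((hZψ z).mp hz))
        fun he => hz1 (ψ.injective (he.trans (map_one ψ).symm))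
      rw [hS.card_center, Nat.card_zpowers, hz2] at h4
      omega
  have hExt : Ext C₀ D₀ x₀ := ⟨hcardC, hD₀n, hx5, hxD, φ, fun a => MulAut.conjNormal_apply x₀ a, hfive⟩
  -- transport
  have hmap : C₀.map E'.toMonoidHom = Subgroup.centralizer ({t} : Set (Cfsg.PSU 3 F 4)) := by
    ext b
    obtain ⟨a, rfl⟩ := E'.surjective b
    rw [Subgroup.mem_map_equiv, MulEquiv.symm_apply_apply, Subgroup.mem_centralizer_singleton_iff,
      Subgroup.mem_centralizer_singleton_iff, htd, ← map_mul, ← map_mul, E'.injective.eq_iff]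
  let Θ : C₀ ≃* Subgroup.centralizer ({t} : Set (Cfsg.PSU 3 F 4)) :=
    (C₀.equivMapOfInjective E'.toMonoidHom E'.injective).trans (MulEquiv.subgroupCongr hmap)
  exact ⟨t, D₀.map Θ.toMonoidHom, Θ x₀, ht, hExt.transport Θ⟩

end CfsgLib.UnitaryCent
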