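import Cfsg.Agent.Lib.UnitaryCent.Iso
import Cfsg.Agent.Lib.RankFrattini
import Cfsg.Agent.Lib.CoprimeAbelian
import Mathlib.GroupTheory.SpecificGroups.KleinFour

/-!
Groups of order `320` with derived subgroup of order `64` with Klein centre.
-/

set_option autoImplicit false
set_option linter.unusedSectionVars false

namespace CfsgLib.UnitaryCent

open scoped commutatorElement

universe u
variable {G : Type u} [Group G] [Finite G]

/-- Fixed points of an automorphism of order five on an invariant subgroup. -/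
theorem card_modEq_fixed {D : Type*} [Group D] [Finite D] (φ : MulAut D) (h5 : φ ^ 5 = 1) (R : Subgroup D)
    (hinv : ∀ g ∈ R, φ g ∈ R) : Nat.card R ≡ Nat.card {g : D // g ∈ R ∧ φ g = g} [MOD 5] := by
  classical
  haveI : Fact (Nat.Prime 5) := ⟨by norm_num⟩
  haveI := Fintype.ofFinite D
  let f : Function.End R := fun g => ⟨φ g, hinv g g.2⟩
  have hiter : ∀ (i : ℕ) (g : R), (((f ^ i) g : R) : D) = (φ ^ i) g := by
    intro i
    induction i with
    | zero => intro g; rfl
    | succ i ih =>
      intro g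
      rw [pow_succ', pow_succ', MulAut.mul_apply, ← ih]
      rfl
  have hf : f ^ 5 ^ 1 = 1 := by
    funext g
    apply Subtype.ext
    rw [hiter, pow_one, h5]
    rfl
  have hmod := Equiv.Perm.card_fixedPoints_modEq hf
  rw [← Nat.card_eq_fintype_card, ← Nat.card_eq_fintype_card] at hmod
  have e : Nat.card f.fixedPoints = Nat.card {g : D // g ∈ R ∧ φ g = g} :=
    Nat.card_congr
      { toFun := fun g => ⟨g.1.1, g.1.2, congrArg Subtype.val g.2⟩
        invFun := fun g => ⟨⟨g.1, g.2.1⟩, Subtype.ext g.2.2⟩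
        left_inv := fun g => rfl
        right_inv := fun g => rfl }
  rwa [e] at hmod

theorem card_four_or_top {D : Type*} [Group D] [Finite D] (hcard : Nat.card D = 64) (R : Subgroup D)
    (hmod : Nat.card R ≡ 4 [MOD 5]) : Nat.card R = 4 ∨ R = ⊤ := by
  have h64 : Nat.card R ∣ 2 ^ 6 := by
    have := Subgroup.card_subgroup_dvd_card R
    rw [hcard] at this
    exact this
  obtain ⟨a, ha, he⟩ := (Nat.dvd_prime_pow Nat.prime_two).mp h64
  rw [he] at hmod
  interval_cases a <;> norm_num [Nat.ModEq] at hmod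
  · exact Or.inl (he.trans (by norm_num))
  · exact Or.inr (Subgroup.eq_top_of_card_eq _ (by rw [he, hcard]; norm_num))

theorem exists_ext (hG : Nat.card G = 320) (hD : Nat.card (commutator G) = 64)
    (hZ : IsKleinFour (Subgroup.center (commutator G))) : ∃ x : G, Ext G (commutator G) x := by
  classical
  haveI : Fact (Nat.Prime 5) := ⟨by norm_num⟩
  haveI : Fact (Nat.Prime 2) := ⟨Nat.prime_two⟩
  haveI := hZ
  obtain ⟨x, hx⟩ := exists_prime_orderOf_dvd_card' (G := G) 5 (by rw [hG]; norm_num)
  have hx5 : x ^ 5 = 1 := by rw [← hx, pow_orderOf_eq_one]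
  set D := commutator G with hDd
  have hxD : x ∉ D := fun hh => by
    have h1 := orderOf_dvd_natCard (⟨x, hh⟩ : D)
    rw [Subgroup.orderOf_mk, hx, hD] at h1
    norm_num at h1
  refine ⟨x, ⟨hG, inferInstance, hx5, hxD, ⟨MulAut.conjNormal x, fun a => MulAut.conjNormal_apply x a, ?_⟩⟩⟩
  set φ : MulAut D := MulAut.conjNormal x with hφ
  have h5 : φ ^ 5 = 1 := by rw [hφ, ← map_pow, hx5, map_one]
  have hDp : IsPGroup 2 D := IsPGroup.of_card (n := 6) (by rw [hD]; norm_num)
  set Φ := frattini D with hΦ
  -- fixed points lie in the Frattini subgroup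
  have hΦfix : ∀ g : D, φ g = g → g ∈ Φ := by
    set N : Subgroup G := Φ.map D.subtype with hN
    haveI : N.Normal := ConjAct.normal_of_characteristic_of_normal
    set π := QuotientGroup.mk' N with hπ
    set V := D.map π with hV
    haveI : V.Normal := Subgroup.Normal.map inferInstance _ (QuotientGroup.mk'_surjective N)
    set A := Subgroup.zpowers (π x) with hA
    haveI : IsMulCommutative V := ⟨⟨by
      rintro ⟨_, a, ha, rfl⟩ ⟨_, b, hb, rfl⟩
      apply Subtype.ext
      show π a * π b = π b * π a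
      apply commutatorElement_eq_one_iff_mul_comm.mp
      rw [← map_commutatorElement]
      refine (QuotientGroup.eq_one_iff _).mpr ⟨⁅(⟨a, ha⟩ : D), ⟨b, hb⟩⁆, CfsgLib.commutator_le_frattini_pGroup hDp
        (Subgroup.commutator_mem_commutator (Subgroup.mem_top _) (Subgroup.mem_top _)), rfl⟩⟩⟩
    have hAV : A ≤ Subgroup.normalizer (V : Set (G ⧸ N)) := by rw [Subgroup.normalizer_eq_top]; exact le_top
    have hcop : (Nat.card A).Coprime (Nat.card V) := by
      have h1 : Nat.card A ∣ 5 := by
        rw [hA, Nat.card_zpowers]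
        exact orderOf_dvd_of_pow_eq_one (by rw [← map_pow, hx5, map_one])
      have h2 : Nat.card V ∣ 64 := hD ▸ Subgroup.card_map_dvd D π
      exact Nat.Coprime.coprime_dvd_left h1 (Nat.Coprime.coprime_dvd_right h2 (by norm_num))
    set W := ⁅V, A⁆ with hW
    have hWV : W ≤ V := Subgroup.commutator_le.mpr fun v hv a _ => by
      rw [commutatorElement_def, mul_assoc, mul_assoc, ← mul_assoc a]
      exact V.mul_mem hv ((inferInstance : V.Normal).conj_mem _ (V.inv_mem hv) a)
    have hgen : V ⊔ A = ⊤ := by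
      refine Subgroup.eq_top_of_le_card _ ?_
      have h1 : D ⊔ Subgroup.zpowers x = ⊤ := by
        refine Subgroup.eq_top_of_le_card _ ?_
        rw [hG]
        have h64 : 64 ∣ Nat.card ↥(D ⊔ Subgroup.zpowers x) := hD ▸ Subgroup.card_dvd_of_le le_sup_left
        have h55 : 5 ∣ Nat.card ↥(D ⊔ Subgroup.zpowers x) := by
          rw [← hx, ← Nat.card_zpowers]
          exact Subgroup.card_dvd_of_le le_sup_right
        exact Nat.le_of_dvd Nat.card_pos (Nat.Coprime.mul_dvd_of_dvd_of_dvd (by norm_num) h64 h55)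
      have h2 : V ⊔ A = ⊤ := by
        rw [hV, hA, ← MonoidHom.map_zpowers, ← Subgroup.map_sup, h1,
          Subgroup.map_top_of_surjective _ (QuotientGroup.mk'_surjective N)]
      rw [h2, Subgroup.card_top]
    haveI : W.Normal := by
      rw [← Subgroup.normalizer_eq_top_iff, eq_top_iff, ← hgen]
      exact sup_le (CfsgLib.left_le_normalizer_commutator A V) (CfsgLib.right_le_normalizer_commutator A V)
    have hVW : V ≤ W := by
      let ρ := QuotientGroup.mk' W
      have hcomm : ∀ a b : (G ⧸ N) ⧸ W, a * b = b * a := by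
        have hc : (⊤ : Subgroup ((G ⧸ N) ⧸ W)) ≤ Subgroup.center _ := by
          rw [← Subgroup.map_top_of_surjective ρ (QuotientGroup.mk'_surjective W), ← hgen, Subgroup.map_le_iff_le_comap]
          have hcV : ∀ v ∈ V, ∀ g ∈ V ⊔ A, ρ g * ρ v = ρ v * ρ g := by
            intro v hv g hg
            have hle : V ⊔ A ≤ (Subgroup.centralizer ({ρ v} : Set _)).comap ρ := by
              refine sup_le (fun w hw => Subgroup.mem_centralizer_singleton_iff.mpr ?_) fun a ha =>
                Subgroup.mem_centralizer_singleton_iff.mpr ?_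
              · rw [← map_mul, ← map_mul]
                exact congrArg ρ (congrArg Subtype.val (mul_comm' (⟨w, hw⟩ : V) ⟨v, hv⟩))
              · apply commutatorElement_eq_one_iff_mul_comm.mp
                rw [← map_commutatorElement]
                refine (QuotientGroup.eq_one_iff _).mpr ?_
                rw [← commutatorElement_inv]
                exact W.inv_mem (Subgroup.commutator_mem_commutator hv ha)
            exact Subgroup.mem_centralizer_singleton_iff.mp (hle hg)
          refine sup_le (fun v hv => Subgroup.mem_center_iff.mpr fun q => ?_) fun a ha =>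
            Subgroup.mem_center_iff.mpr fun q => ?_
          · obtain ⟨g, rfl⟩ := QuotientGroup.mk'_surjective W q
            exact hcV v hv g (hgen ▸ Subgroup.mem_top g)
          · obtain ⟨g, rfl⟩ := QuotientGroup.mk'_surjective W q
            have hle : V ⊔ A ≤ (Subgroup.centralizer ({ρ a} : Set _)).comap ρ := by
              refine sup_le (fun w hw => Subgroup.mem_centralizer_singleton_iff.mpr
                (hcV w hw a (hgen ▸ Subgroup.mem_top a)).symm) fun b hb => Subgroup.mem_centralizer_singleton_iff.mpr ?_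
              obtain ⟨i, rfl⟩ := Subgroup.mem_zpowers_iff.mp ha
              obtain ⟨j, rfl⟩ := Subgroup.mem_zpowers_iff.mp hb
              rw [← map_mul, ← map_mul, ← zpow_add, ← zpow_add, add_comm]
            exact Subgroup.mem_centralizer_singleton_iff.mp (hle (hgen ▸ Subgroup.mem_top g))
        exact fun a b => Subgroup.mem_center_iff.mp (hc (Subgroup.mem_top b)) a
      intro v hv
      obtain ⟨d, hd, rfl⟩ := hv
      rw [← QuotientGroup.eq_one_iff]
      have hle : D ≤ (ρ.comp π).ker := by
        rw [hDd, commutator_eq_closure, Subgroup.closure_le]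
        rintro _ ⟨a, b, rfl⟩
        rw [SetLike.mem_coe, MonoidHom.mem_ker, map_commutatorElement]
        exact commutatorElement_eq_one_iff_mul_comm.mpr (hcomm _ _)
      exact hle hd
    have hdis := CfsgLib.coprime_abelian_disjoint A V hAV hcop
    intro g hg
    have hmem : π (g : G) ∈ (V ⊓ Subgroup.centralizer (A : Set (G ⧸ N))) ⊓ ⁅V, A⁆ := by
      refine ⟨⟨⟨_, g.2, rfl⟩, Subgroup.mem_centralizer_iff.mpr fun a ha => ?_⟩, hVW ⟨_, g.2, rfl⟩⟩
      obtain ⟨i, rfl⟩ := Subgroup.mem_zpowers_iff.mp ha
      have h1 : x * g * x⁻¹ = (g : G) := by rw [← MulAut.conjNormal_apply, ← hφ, hg]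
      refine ((show Commute (π x) (π (g : G)) from ?_).zpow_left i).eq
      show π x * π (g : G) = π (g : G) * π x
      rw [← map_mul, ← map_mul, show x * (g : G) = g * x from mul_inv_eq_iff_eq_mul.mp h1]
    rw [hdis, Subgroup.mem_bot] at hmem
    obtain ⟨w, hw, hwe⟩ := (QuotientGroup.eq_one_iff _).mp hmem
    rwa [← Subtype.coe_injective hwe]
  -- the centre is fixed
  set Z := Subgroup.center D with hZd
  have hcZ : Nat.card Z = 4 := IsKleinFour.card_four
  have hZinv : ∀ g ∈ Z, φ g ∈ Z := fun g hg => by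
    rw [Subgroup.mem_center_iff] at hg ⊢
    intro k
    obtain ⟨k, rfl⟩ := φ.surjective k
    rw [← map_mul, hg k, map_mul]
  have hZfix : ∀ g ∈ Z, φ g = g := by
    have hmod := card_modEq_fixed φ h5 Z hZinv
    rw [hcZ] at hmod
    have hle : Nat.card {g : D // g ∈ Z ∧ φ g = g} ≤ 4 := hcZ ▸
      Nat.card_le_card_of_injective (fun g : {g : D // g ∈ Z ∧ φ g = g} => (⟨g.1, g.2.1⟩ : Z))
        (fun a b he => Subtype.ext (congrArg (fun z : Z => (z : D)) he))
    have heq : Nat.card {g : D // g ∈ Z ∧ φ g = g} = Nat.card Z := by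
      rw [hcZ]
      unfold Nat.ModEq at hmod
      omega
    have hb : Function.Bijective (fun g : {g : D // g ∈ Z ∧ φ g = g} => (⟨g.1, g.2.1⟩ : Z)) :=
      (Nat.bijective_iff_injective_and_card _).mpr ⟨fun a b he => Subtype.ext (congrArg (fun z : Z => (z : D)) he), heq⟩
    intro g hg
    obtain ⟨a, ha⟩ := hb.2 ⟨g, hg⟩
    have ha' : (a : D) = g := congrArg (fun z : Z => (z : D)) ha
    rw [← ha']
    exact a.2.2
  have hΦne : Φ ≠ ⊤ := by
    intro htop
    haveI : Nontrivial D := Finite.one_lt_card_iff_nontrivial.mp (by rw [hD]; norm_num)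
    obtain h1 | ⟨M, hM, -⟩ := IsCoatomic.eq_top_or_exists_le_coatom (⊥ : Subgroup D)
    · exact bot_ne_top h1
    · exact hM.1 (top_le_iff.mp (htop ▸ frattini_le_coatom hM))
  -- all fixed points
  let Fx : Subgroup D :=
    { carrier := {g | φ g = g}
      one_mem' := map_one φ
      mul_mem' := fun {a b} (ha : φ a = a) (hb : φ b = b) => by show φ (a * b) = a * b; rw [map_mul, ha, hb]
      inv_mem' := fun {a} (ha : φ a = a) => by show φ a⁻¹ = a⁻¹; rw [map_inv, ha] }
  have hFx : Fx ≤ Φ := hΦfix
  have hFxcard : Nat.card Fx = 4 := by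
    refine (card_four_or_top hD Fx ?_).resolve_right fun ht => hΦne (top_le_iff.mp (ht ▸ hFx))
    have hmod := card_modEq_fixed φ h5 ⊤ fun _ _ => trivial
    rw [Subgroup.card_top, hD] at hmod
    rw [show Nat.card {g : D // g ∈ (⊤ : Subgroup D) ∧ φ g = g} = Nat.card Fx from
      Nat.card_congr (Equiv.subtypeEquivRight fun g => ⟨fun hh => hh.2, fun hh => ⟨trivial, hh⟩⟩)] at hmod
    exact hmod.symm.trans (by decide)
  have hFxZ : Fx = Z := (Subgroup.eq_of_le_of_card_ge (show Z ≤ Fx from hZfix) (by rw [hFxcard, hcZ])).symm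
  have hΦZ : Φ = Z := by
    have hΦinv : ∀ g ∈ Φ, φ g ∈ Φ := fun g hg => by
      have h1 := Subgroup.characteristic_iff_map_eq.mp (inferInstance : Φ.Characteristic) φ
      rw [← h1]
      exact ⟨g, hg, rfl⟩
    have hmod := card_modEq_fixed φ h5 Φ hΦinv
    rw [show Nat.card {g : D // g ∈ Φ ∧ φ g = g} = Nat.card Fx from
      Nat.card_congr (Equiv.subtypeEquivRight fun g => ⟨fun hh => hh.2, fun hh => ⟨hFx hh, hh⟩⟩), hFxcard] at hmod
    have h4 := (card_four_or_top hD Φ hmod).resolve_right hΦne
    exact ((Subgroup.eq_of_le_of_card_ge (hFxZ ▸ hFx) (by rw [h4, hcZ]))).symm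
  refine ⟨hD, hcZ, fun g => ?_, fun z hz => ?_, h5, fun g => ⟨fun hg => (SetLike.ext_iff.mp hFxZ g).mp hg, hZfix g⟩,
    fun z hz hz1 hall => ?_⟩
  · rw [← hZd, ← hΦZ, ← pow_two]
    exact CfsgLib.pow_mem_frattini_pGroup hDp g
  · exact congrArg Subtype.val (IsKleinFour.mul_self (⟨z, hz⟩ : Subgroup.center D))
  · have hzz : z * z = 1 := congrArg Subtype.val (IsKleinFour.mul_self (⟨z, hz⟩ : Subgroup.center D))
    have hle : Φ ≤ Subgroup.zpowers z := by
      refine CfsgLib.RankFrattini.frattini_le_of_elementary (p := 2) hDp _ (fun a b => ?_) fun a => ?_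
      · rcases hall.2 a b with he | he <;> rw [he]
        · exact one_mem _
        · exact Subgroup.mem_zpowers z
      · rw [pow_two]
        rcases hall.1 a with he | he <;> rw [he]
        · exact one_mem _
        · exact Subgroup.mem_zpowers z
    have h2 := Subgroup.card_le_of_le hle
    rw [hΦZ, hcZ, Nat.card_zpowers, orderOf_eq_prime (by rw [pow_two]; exact hzz) hz1] at h2
    omega

end CfsgLib.UnitaryCent
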