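import Cfsg.Agent.Lib.SuzukiTwo.RankTwo
import Mathlib.GroupTheory.Perm.Cycle.Type

/-!
A group of order `64` with an automorphism of order five fixing exactly the Klein centre:
a normal form of five conjugate generators.
-/

set_option autoImplicit false
set_option linter.unusedSectionVars false

namespace CfsgLib.UnitaryCent

open CfsgLib.SuzukiTwo
open scoped commutatorElement

universe u

/-- The hypotheses. -/
structure Five (D : Type u) [Group D] (φ : MulAut D) : Prop where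
  card : Nat.card D = 64
  card_center : Nat.card (Subgroup.center D) = 4
  sq : ∀ g : D, g * g ∈ Subgroup.center D
  cen : ∀ z ∈ Subgroup.center D, z * z = 1
  five : φ ^ 5 = 1
  fix : ∀ g : D, φ g = g ↔ g ∈ Subgroup.center D
  spans : ∀ z ∈ Subgroup.center D, z ≠ 1 →
    ¬ ((∀ g : D, g * g = 1 ∨ g * g = z) ∧ ∀ g h : D, ⁅g, h⁆ = 1 ∨ ⁅g, h⁆ = z)

variable {D : Type u} [Group D] [Finite D] {φ : MulAut D}

theorem Five.good (h : Five D φ) : Good D := ⟨h.sq, h.cen⟩

/-- An invariant subgroup above the centre is the centre or everything. -/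
theorem Five.invariant_cases (h : Five D φ) (R : Subgroup D) (hZ : Subgroup.center D ≤ R)
    (hinv : ∀ g ∈ R, φ g ∈ R) : R ≤ Subgroup.center D ∨ R = ⊤ := by
  classical
  haveI : Fact (Nat.Prime 5) := ⟨by norm_num⟩
  haveI := Fintype.ofFinite D
  let f : Function.End R := fun g => ⟨φ g, hinv g g.2⟩
  have hiter : ∀ (i : ℕ) (g : R), (((f ^ i) g : R) : D) = (φ ^ i) g := by
    intro i
    induction i with
    | zero => intro g; rfl
    | succ i ih =>
      intro g
      rw [pow_succ', pow_succ', MulAut.mul_apply, ← ih]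
      rfl
  have hf : f ^ 5 ^ 1 = 1 := by
    funext g
    apply Subtype.ext
    rw [hiter, pow_one, h.five]
    rfl
  have hmod := Equiv.Perm.card_fixedPoints_modEq hf
  have hfix : Fintype.card f.fixedPoints = 4 := by
    rw [← h.card_center, ← Nat.card_eq_fintype_card]
    exact Nat.card_congr
      { toFun := fun g => ⟨g.1.1, (h.fix _).mp (congrArg Subtype.val g.2)⟩
        invFun := fun z => ⟨⟨z.1, hZ z.2⟩, Subtype.ext ((h.fix _).mpr z.2)⟩
        left_inv := fun g => rfl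
        right_inv := fun z => rfl }
  rw [hfix, ← Nat.card_eq_fintype_card] at hmod
  have h64 : Nat.card R ∣ 2 ^ 6 := by
    have := Subgroup.card_subgroup_dvd_card R
    rw [h.card] at this
    exact this
  obtain ⟨a, ha, hcard⟩ := (Nat.dvd_prime_pow Nat.prime_two).mp h64
  rw [hcard] at hmod
  interval_cases a <;> norm_num [Nat.ModEq] at hmod
  · left
    exact (Subgroup.eq_of_le_of_card_ge hZ (by rw [hcard, h.card_center]; norm_num)).ge
  · right
    exact Subgroup.eq_top_of_card_eq _ (by rw [hcard, h.card]; norm_num)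

/-- Commutators of a noncentral element are not confined to one line. -/
theorem Five.not_line (h : Five D φ) {v : D} (hv : v ∉ Subgroup.center D) {z : D} (hz : z ∈ Subgroup.center D)
    (hz1 : z ≠ 1) (hsq : v * v = 1 ∨ v * v = z) : ¬ ∀ g : D, ⁅v, g⁆ = 1 ∨ ⁅v, g⁆ = z := by
  intro hline
  have hg := h.good
  have hzz := h.cen z hz
  let L : Subgroup D :=
    { carrier := {a | a = 1 ∨ a = z}
      one_mem' := Or.inl rfl
      mul_mem' := fun {a b} ha hb => by
        rcases ha with rfl | rfl <;> rcases hb with rfl | rfl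
        · exact Or.inl (one_mul 1)
        · exact Or.inr (one_mul _)
        · exact Or.inr (mul_one _)
        · exact Or.inl hzz
      inv_mem' := fun {a} ha => by
        rcases ha with rfl | rfl
        · exact Or.inl inv_one
        · exact Or.inr (inv_eq_of_mul_eq_one_left hzz) }
  have hLk : ∀ a ∈ L, φ a ∈ L := fun a ha => by
    rcases ha with rfl | rfl
    · exact Or.inl (map_one φ)
    · exact Or.inr ((h.fix _).mpr hz)
  let R : Subgroup D :=
    { carrier := {a | ∀ g : D, ⁅a, g⁆ ∈ L}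
      one_mem' := fun g => by rw [commutatorElement_one_left]; exact L.one_mem
      mul_mem' := fun {a b} ha hb g => by
        rw [commutator_left_central (hg.commutator_mem b g)]
        exact L.mul_mem (hb g) (ha g)
      inv_mem' := fun {a} ha g => by
        have e : ⁅a * a⁻¹, g⁆ = 1 := by rw [mul_inv_cancel, commutatorElement_one_left]
        rw [commutator_left_central (hg.commutator_mem a⁻¹ g)] at e
        rw [eq_inv_of_mul_eq_one_left e]
        exact L.inv_mem (ha g) }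
  have hRtop : R = ⊤ := by
    refine (h.invariant_cases R (fun c hc g => ?_) fun a ha g => ?_).resolve_left fun hle => hv (hle hline)
    · rw [commutator_center_left hc]
      exact L.one_mem
    · obtain ⟨g, rfl⟩ := φ.surjective g
      rw [← map_commutatorElement]
      exact hLk _ (ha g)
  have hRall : ∀ g k : D, ⁅g, k⁆ ∈ L := fun g k => (show g ∈ R by rw [hRtop]; trivial) k
  let K : Subgroup D :=
    { carrier := {a | a * a ∈ L}
      one_mem' := by show (1 : D) * 1 ∈ L; rw [one_mul]; exact L.one_mem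
      mul_mem' := fun {a b} ha hb => by
        show a * b * (a * b) ∈ L
        rw [mul_mul_self_eq hg]
        exact L.mul_mem (L.mul_mem ha hb) (hRall b a)
      inv_mem' := fun {a} ha => by
        show a⁻¹ * a⁻¹ ∈ L
        rw [← mul_inv_rev]
        exact L.inv_mem ha }
  have hKtop : K = ⊤ := by
    refine (h.invariant_cases K (fun c hc => ?_) fun a ha => ?_).resolve_left fun hle => hv (hle hsq)
    · show c * c ∈ L
      rw [h.cen c hc]
      exact L.one_mem
    · show φ a * φ a ∈ L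
      rw [← map_mul]
      exact hLk _ ha
  exact h.spans z hz hz1 ⟨fun g => (show g ∈ K by rw [hKtop]; trivial), hRall⟩

/-- Five conjugate generators in normal form. -/
structure Pent (D : Type u) [Group D] (φ : MulAut D) (v₀ v₁ v₂ v₃ z₁ z₂ : D) : Prop where
  z₁mem : z₁ ∈ Subgroup.center D
  z₂mem : z₂ ∈ Subgroup.center D
  z₁sq : z₁ * z₁ = 1
  z₂sq : z₂ * z₂ = 1
  e₁ : φ v₀ = v₁
  e₂ : φ v₁ = v₂
  e₃ : φ v₂ = v₃
  e₄ : φ v₃ = (v₀ * v₁ * v₂ * v₃)⁻¹
  ez₁ : φ z₁ = z₁
  ez₂ : φ z₂ = z₂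
  s₀ : v₀ * v₀ = z₁
  s₁ : v₁ * v₁ = z₁
  s₂ : v₂ * v₂ = z₁
  s₃ : v₃ * v₃ = z₁
  c₁₀ : ⁅v₁, v₀⁆ = z₂
  c₂₁ : ⁅v₂, v₁⁆ = z₂
  c₃₂ : ⁅v₃, v₂⁆ = z₂
  c₂₀ : ⁅v₂, v₀⁆ = z₁ * z₂
  c₃₁ : ⁅v₃, v₁⁆ = z₁ * z₂
  c₃₀ : ⁅v₃, v₀⁆ = z₁ * z₂
  gen : Subgroup.closure ({v₀, v₁, v₂, v₃} : Set D) = ⊤

theorem Five.exists_pent (h : Five D φ) : ∃ v₀ v₁ v₂ v₃ z₁ z₂ : D, Pent D φ v₀ v₁ v₂ v₃ z₁ z₂ := by
  classical
  have hg := h.good
  set Z := Subgroup.center D with hZd
  have hfixZ : ∀ {z}, z ∈ Z → φ z = z := fun hz => (h.fix _).mpr hz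
  have hsymm : ∀ a b : D, ⁅b, a⁆ = ⁅a, b⁆ := fun a b => by
    rw [← commutatorElement_inv, inv_eq_of_mul_eq_one_left]
    exact hg.2 _ (hg.commutator_mem a b)
  have hφc : ∀ a b : D, ⁅φ a, φ b⁆ = ⁅a, b⁆ := fun a b => by
    rw [← map_commutatorElement, hfixZ (hg.commutator_mem a b)]
  have hφ5 : ∀ g : D, φ (φ (φ (φ (φ g)))) = g := fun g => by
    have := congrArg (fun f : MulAut D => f g) h.five
    simpa [pow_succ, MulAut.mul_apply] using this
  -- a noncentral element with nontrivial square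
  obtain ⟨v, hv, hv1⟩ : ∃ v, v ∉ Z ∧ v * v ≠ 1 := by
    by_contra hno
    push Not at hno
    have hall : ∀ g : D, g * g = 1 := fun g => by
      by_cases hgZ : g ∈ Z
      · exact h.cen g hgZ
      · exact hno g hgZ
    have htop : (⊤ : Subgroup D) ≤ Z := fun g _ => Subgroup.mem_center_iff.mpr fun k => by
      have h1 := hall (k * g)
      have e1 : k * g = (k * g)⁻¹ := eq_inv_of_mul_eq_one_left h1
      rw [e1, mul_inv_rev, inv_eq_of_mul_eq_one_left (hall g), inv_eq_of_mul_eq_one_left (hall k)]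
    have := Subgroup.card_le_of_le htop
    rw [Subgroup.card_top, h.card, h.card_center] at this
    omega
  set P := v * φ v * φ (φ v) * φ (φ (φ v)) * φ (φ (φ (φ v))) with hPd
  have hP : P ∈ Z := by
    rw [← h.fix]
    have h1 : φ P = v⁻¹ * P * v := by
      rw [hPd, map_mul, map_mul, map_mul, map_mul, hφ5]
      group
    obtain ⟨c, hc, hPc⟩ : ∃ c ∈ Z, φ P = P * c :=
      ⟨⁅P⁻¹, v⁻¹⁆, hg.commutator_mem _ _, by rw [h1, commutatorElement_def]; group⟩
    have h2 : ∀ i : ℕ, (φ ^ i) P = P * c ^ i := by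
      intro i
      induction i with
      | zero => simp
      | succ i ih =>
        rw [pow_succ', MulAut.mul_apply, ih, map_mul, hPc, map_pow, hfixZ hc, mul_assoc, ← pow_succ']
    have h3 := h2 5
    rw [h.five] at h3
    have h4 : c ^ 5 = 1 := mul_eq_left.mp h3.symm
    have h5 : c = 1 := by
      have := h.cen c hc
      calc c = c ^ 5 * ((c * c) * (c * c))⁻¹ := by group
        _ = 1 := by rw [h4, this, one_mul, mul_one, inv_one]
    rw [hPc, h5, mul_one]
  -- normalise the product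
  obtain ⟨v₀, hv₀, hz₁1, hprod⟩ : ∃ w, w ∉ Z ∧ w * w ≠ 1 ∧
      w * φ w * φ (φ w) * φ (φ (φ w)) * φ (φ (φ (φ w))) = 1 := by
    refine ⟨v * P, fun hh => hv ?_, ?_, ?_⟩
    · have := Z.mul_mem hh (Z.inv_mem hP)
      rwa [mul_inv_cancel_right] at this
    · rw [mul_mul_self_eq hg, h.cen P hP, mul_one, commutator_center_left hP, mul_one]
      exact hv1
    · have hc := fun g : D => Subgroup.mem_center_iff.mp hP g
      simp only [map_mul, hfixZ hP]
      calc v * P * (φ v * P) * (φ (φ v) * P) * (φ (φ (φ v)) * P) * (φ (φ (φ (φ v))) * P)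
          = v * (P * φ v) * P * φ (φ v) * P * φ (φ (φ v)) * P * φ (φ (φ (φ v))) * P := by group
        _ = v * φ v * ((P * P) * φ (φ v)) * P * φ (φ (φ v)) * P * φ (φ (φ (φ v))) * P := by rw [← hc]; group
        _ = v * φ v * φ (φ v) * (P * φ (φ (φ v))) * P * φ (φ (φ (φ v))) * P := by rw [h.cen P hP]; group
        _ = v * φ v * φ (φ v) * φ (φ (φ v)) * ((P * P) * φ (φ (φ (φ v)))) * P := by rw [← hc]; group
        _ = P * P := by
          conv_lhs => rw [h.cen P hP, one_mul]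
        _ = 1 := h.cen P hP
  set z₁ := v₀ * v₀ with hz₁d
  set v₁ := φ v₀ with hv₁d
  set v₂ := φ v₁ with hv₂d
  set v₃ := φ v₂ with hv₃d
  set c := ⁅v₁, v₀⁆ with hcd
  set d := ⁅v₂, v₀⁆ with hdd
  have hz₁ : z₁ ∈ Z := h.sq _
  have s₁ : v₁ * v₁ = z₁ := by rw [hv₁d, ← map_mul]; exact hfixZ hz₁
  have s₂ : v₂ * v₂ = z₁ := by rw [hv₂d, ← map_mul, s₁]; exact hfixZ hz₁
  have s₃ : v₃ * v₃ = z₁ := by rw [hv₃d, ← map_mul, s₂]; exact hfixZ hz₁
  have c₂₁ : ⁅v₂, v₁⁆ = c := hφc v₁ v₀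
  have c₃₂ : ⁅v₃, v₂⁆ = c := (hφc v₂ v₁).trans c₂₁
  have c₃₁ : ⁅v₃, v₁⁆ = d := hφc v₂ v₀
  have hv4 : φ v₃ = (v₀ * v₁ * v₂ * v₃)⁻¹ := eq_inv_of_mul_eq_one_right hprod
  have h50 : φ (φ v₃) = v₀ := hφ5 v₀
  have c₃₀ : ⁅v₃, v₀⁆ = d := by
    rw [← hφc v₃ v₀, ← hφc (φ v₃) (φ v₀), h50, hdd, ← hsymm]
  have hcc : c * c = 1 := h.cen _ (hg.commutator_mem _ _)
  have hdd2 : d * d = 1 := h.cen _ (hg.commutator_mem _ _)
  have hzz : z₁ * z₁ = 1 := h.cen _ hz₁
  have hcen : ∀ {a}, a ∈ Z → ∀ g : D, g * a = a * g := fun ha g => Subgroup.mem_center_iff.mp ha g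
  have hcmem : c ∈ Z := hg.commutator_mem _ _
  have hdmem : d ∈ Z := hg.commutator_mem _ _
  have hdc : d * c = z₁ := by
    have h01 : v₀ * v₁ * (v₀ * v₁) = c := by
      rw [mul_mul_self_eq hg, s₁, hzz, one_mul]
    have h012 : v₀ * v₁ * v₂ * (v₀ * v₁ * v₂) = z₁ * d := by
      rw [mul_mul_self_eq hg, h01, s₂, commutator_right_central (hg.commutator_mem v₂ v₁), c₂₁, ← hdd,
        show c * z₁ * (d * c) = z₁ * c * (d * c) by rw [hcen hz₁ c],
        show z₁ * c * (d * c) = z₁ * (c * d) * c by group, hcen hdmem c, show z₁ * (d * c) * c = z₁ * d * (c * c) by group,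
        hcc, mul_one]
    have h4 : φ v₃ * φ v₃ = z₁ := by rw [← map_mul, s₃]; exact hfixZ hz₁
    rw [hv4, ← mul_inv_rev, inv_eq_iff_eq_inv, inv_eq_of_mul_eq_one_left hzz, mul_mul_self_eq hg, h012, s₃,
      commutator_right_central (hg.commutator_mem v₃ v₂), commutator_right_central (hg.commutator_mem v₃ v₁), c₃₂,
      c₃₁, c₃₀, hdd2, one_mul, show z₁ * d * z₁ * c = z₁ * (d * z₁) * c by group, hcen hz₁ d,
      show z₁ * (z₁ * d) * c = z₁ * z₁ * (d * c) by group, hzz, one_mul] at h4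
    exact h4
  have hdz : d = z₁ * c := by rw [← hdc, mul_assoc, hcc, mul_one]
  -- generation
  set K := Subgroup.closure ({v₀, v₁, v₂, v₃} : Set D) with hK
  have m₀ : v₀ ∈ K := Subgroup.subset_closure (by simp)
  have m₁ : v₁ ∈ K := Subgroup.subset_closure (by simp)
  have m₂ : v₂ ∈ K := Subgroup.subset_closure (by simp)
  have m₃ : v₃ ∈ K := Subgroup.subset_closure (by simp)
  have hKφ : ∀ g ∈ K, φ g ∈ K := by
    have hle : K ≤ K.comap φ.toMonoidHom := by
      rw [hK, Subgroup.closure_le]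
      rintro g (rfl | rfl | rfl | rfl)
      · exact m₁
      · exact m₂
      · exact m₃
      · show φ v₃ ∈ K
        rw [hv4]
        exact K.inv_mem (K.mul_mem (K.mul_mem (K.mul_mem m₀ m₁) m₂) m₃)
    exact hle
  have hline : c = 1 ∨ c = z₁ → False := by
    intro hc
    refine h.not_line hv₀ hz₁ hz₁1 (Or.inr rfl) ?_
    have hd' : d = 1 ∨ d = z₁ := by
      rcases hc with he | he
      · right; rw [hdz, he, mul_one]
      · left; rw [hdz, he, hzz]
    let τ : D →* Z :=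
      { toFun := fun g => ⟨⁅v₀, g⁆, hg.commutator_mem _ _⟩
        map_one' := Subtype.ext (commutatorElement_one_right v₀)
        map_mul' := fun a b => Subtype.ext (commutator_right_central (hg.commutator_mem v₀ b)) }
    let L : Subgroup Z := Subgroup.zpowers ⟨z₁, hz₁⟩
    have hL : ∀ a ∈ L, (a : D) = 1 ∨ (a : D) = z₁ := by
      intro a ha
      obtain ⟨n, rfl⟩ := Subgroup.mem_zpowers_iff.mp ha
      rcases Int.even_or_odd n with ⟨m, rfl⟩ | ⟨m, rfl⟩
      · left; rw [← two_mul, zpow_mul, show (⟨z₁, hz₁⟩ : Z) ^ (2 : ℤ) = 1 from Subtype.ext (by rw [SubgroupClass.coe_zpow, zpow_two]; exact hzz), one_zpow]; rfl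
      · right; rw [zpow_add, zpow_mul, show (⟨z₁, hz₁⟩ : Z) ^ (2 : ℤ) = 1 from Subtype.ext (by rw [SubgroupClass.coe_zpow, zpow_two]; exact hzz), one_zpow, one_mul, zpow_one]
    have hmemL : ∀ g : D, (⁅v₀, g⁆ = 1 ∨ ⁅v₀, g⁆ = z₁) → g ∈ L.comap τ := fun g hh => by
      show τ g ∈ L
      rcases hh with hh | hh
      · rw [show τ g = 1 from Subtype.ext hh]; exact L.one_mem
      · rw [show τ g = ⟨z₁, hz₁⟩ from Subtype.ext hh]; exact Subgroup.mem_zpowers _
    have hle : K ≤ L.comap τ := by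
      rw [hK, Subgroup.closure_le]
      rintro g (rfl | rfl | rfl | rfl)
      · exact hmemL _ (Or.inl (commutatorElement_self _))
      · exact hmemL _ (by rw [hsymm v₁ v₀]; exact hc)
      · exact hmemL _ (by rw [hsymm v₂ v₀]; exact hd')
      · exact hmemL _ (by rw [hsymm v₃ v₀, c₃₀]; exact hd')
    have hsup : ∀ a ∈ K ⊔ Z, a ∈ L.comap τ := fun a ha => (sup_le hle fun z hz => hmemL z (Or.inl
      (commutatorElement_eq_one_iff_mul_comm.mpr (hcen hz v₀)))) ha
    have htop : K ⊔ Z = ⊤ := by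
      refine (h.invariant_cases _ le_sup_right ?_).resolve_left fun hle => hv₀ (hle (Subgroup.mem_sup_left m₀))
      have hle' : K ⊔ Z ≤ (K ⊔ Z).comap φ.toMonoidHom :=
        sup_le (fun g hg' => Subgroup.mem_sup_left (hKφ g hg')) fun z hz => Subgroup.mem_sup_right (by
          show φ z ∈ Z
          rw [hfixZ hz]; exact hz)
      exact fun g hg' => hle' hg'
    intro g
    exact hL (τ g) (hsup g (htop ▸ Subgroup.mem_top g))
  have hc1 : c ≠ 1 := fun he => hline (Or.inl he)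
  have hcz : c ≠ z₁ := fun he => hline (Or.inr he)
  have hgen : K = ⊤ := by
    refine (h.invariant_cases K (fun z hz => ?_) hKφ).resolve_left fun hle => hv₀ (hle m₀)
    have mz : z₁ ∈ K := K.mul_mem m₀ m₀
    have mc : c ∈ K := by
      rw [hcd, commutatorElement_def]
      exact K.mul_mem (K.mul_mem (K.mul_mem m₁ m₀) (K.inv_mem m₁)) (K.inv_mem m₀)
    rcases klein_list h.card_center h.cen (fun a ha b => Subgroup.mem_center_iff.mp ha b) hz₁ hcmem hz₁1 hc1
      (Ne.symm hcz) z hz with rfl | rfl | rfl | rfl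
    exacts [K.one_mem, mz, mc, K.mul_mem mz mc]
  exact ⟨v₀, v₁, v₂, v₃, z₁, c,
    { z₁mem := hz₁, z₂mem := hcmem, z₁sq := hzz, z₂sq := hcc, e₁ := rfl, e₂ := rfl, e₃ := rfl, e₄ := hv4,
      ez₁ := hfixZ hz₁, ez₂ := hfixZ hcmem, s₀ := rfl, s₁ := s₁, s₂ := s₂, s₃ := s₃, c₁₀ := rfl, c₂₁ := c₂₁,
      c₃₂ := c₃₂, c₂₀ := hdz, c₃₁ := c₃₁.trans hdz, c₃₀ := c₃₀.trans hdz, gen := hgen }⟩

end CfsgLib.UnitaryCent
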