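import Cfsg.Agent.Lib.UnitaryCent.Five
import Cfsg.Agent.Lib.SuzukiTwo.SixtyFourIso
import Cfsg.Agent.Lib.Coprime

/-!
Two extensions of such groups by an element of order five are isomorphic.
-/

set_option autoImplicit false
set_option linter.unusedSectionVars false
set_option maxHeartbeats 1000000

namespace CfsgLib.UnitaryCent

open CfsgLib.SuzukiTwo
open scoped commutatorElement

universe u w

/-- A group of order `320` split over such a group. -/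
structure Ext (G : Type u) [Group G] (D : Subgroup G) (x : G) : Prop where
  card : Nat.card G = 320
  normal : D.Normal
  five : x ^ 5 = 1
  notMem : x ∉ D
  hyp : ∃ φ : MulAut D, (∀ a : D, (φ a : G) = x * a * x⁻¹) ∧ Five D φ

/-- The generators inside the ambient group. -/
structure Gens (G : Type u) [Group G] (x v₀ v₁ v₂ v₃ z₁ z₂ : G) : Prop where
  z₁c : ∀ g ∈ ({v₀, v₁, v₂, v₃, z₁, z₂} : Set G), ⁅g, z₁⁆ = 1
  z₂c : ∀ g ∈ ({v₀, v₁, v₂, v₃, z₁, z₂} : Set G), ⁅g, z₂⁆ = 1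
  z₁sq : z₁ * z₁ = 1
  z₂sq : z₂ * z₂ = 1
  e₁ : x * v₀ * x⁻¹ = v₁
  e₂ : x * v₁ * x⁻¹ = v₂
  e₃ : x * v₂ * x⁻¹ = v₃
  e₄ : x * v₃ * x⁻¹ = (v₀ * v₁ * v₂ * v₃)⁻¹
  ez₁ : x * z₁ * x⁻¹ = z₁
  ez₂ : x * z₂ * x⁻¹ = z₂
  x5 : x ^ 5 = 1
  s₀ : v₀ * v₀ = z₁
  s₁ : v₁ * v₁ = z₁
  s₂ : v₂ * v₂ = z₁
  s₃ : v₃ * v₃ = z₁
  c₁₀ : ⁅v₁, v₀⁆ = z₂
  c₂₁ : ⁅v₂, v₁⁆ = z₂
  c₃₂ : ⁅v₃, v₂⁆ = z₂
  c₂₀ : ⁅v₂, v₀⁆ = z₁ * z₂
  c₃₁ : ⁅v₃, v₁⁆ = z₁ * z₂
  c₃₀ : ⁅v₃, v₀⁆ = z₁ * z₂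
  gen : Subgroup.closure ({x, v₀, v₁, v₂, v₃} : Set G) = ⊤

theorem Ext.exists_gens {G : Type u} [Group G] [Finite G] {D : Subgroup G} {x : G} (h : Ext G D x) :
    ∃ v₀ v₁ v₂ v₃ z₁ z₂, Gens G x v₀ v₁ v₂ v₃ z₁ z₂ := by
  obtain ⟨φ, hφ, h5⟩ := h.hyp
  obtain ⟨v₀, v₁, v₂, v₃, z₁, z₂, p⟩ := h5.exists_pent
  have hc : ∀ {a b r : D}, ⁅a, b⁆ = r → ⁅(a : G), (b : G)⁆ = r := fun {a b r} he => congrArg Subtype.val he
  have hq : ∀ {a r : D}, φ a = r → x * a * x⁻¹ = r := fun {a r} he => by rw [← hφ, he]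
  have hm : ∀ {a b r : D}, a * b = r → (a : G) * b = r := fun {a b r} he => congrArg Subtype.val he
  have hcen : ∀ (z : D), z ∈ Subgroup.center D → ∀ g ∈ ({(v₀ : G), (v₁ : G), (v₂ : G), (v₃ : G), (z₁ : G), (z₂ : G)} : Set G),
      ⁅g, (z : G)⁆ = 1 := by
    intro z hz g hg
    obtain ⟨a, rfl⟩ : ∃ a : D, (a : G) = g := by
      rcases hg with rfl | rfl | rfl | rfl | rfl | rfl
      exacts [⟨v₀, rfl⟩, ⟨v₁, rfl⟩, ⟨v₂, rfl⟩, ⟨v₃, rfl⟩, ⟨z₁, rfl⟩, ⟨z₂, rfl⟩]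
    exact hc (commutatorElement_eq_one_iff_mul_comm.mpr (Subgroup.mem_center_iff.mp hz a))
  refine ⟨v₀, v₁, v₂, v₃, z₁, z₂,
    { z₁c := hcen z₁ p.z₁mem, z₂c := hcen z₂ p.z₂mem, z₁sq := hm p.z₁sq, z₂sq := hm p.z₂sq, e₁ := hq p.e₁,
      e₂ := hq p.e₂, e₃ := hq p.e₃, e₄ := hq p.e₄, ez₁ := hq p.ez₁, ez₂ := hq p.ez₂, x5 := h.five, s₀ := hm p.s₀,
      s₁ := hm p.s₁, s₂ := hm p.s₂, s₃ := hm p.s₃, c₁₀ := hc p.c₁₀, c₂₁ := hc p.c₂₁, c₃₂ := hc p.c₃₂,
      c₂₀ := hc p.c₂₀, c₃₁ := hc p.c₃₁, c₃₀ := hc p.c₃₀, gen := ?_ }⟩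
  set K := Subgroup.closure ({x, (v₀ : G), (v₁ : G), (v₂ : G), (v₃ : G)} : Set G) with hK
  have hDK : D ≤ K := by
    have h1 : (⊤ : Subgroup D) ≤ K.comap D.subtype := by
      rw [← p.gen, Subgroup.closure_le]
      rintro a (rfl | rfl | rfl | rfl) <;> exact Subgroup.subset_closure (by simp)
    exact fun a ha => h1 (Subgroup.mem_top (⟨a, ha⟩ : D))
  have hxK : x ∈ K := Subgroup.subset_closure (by simp)
  obtain ⟨k, hk⟩ := Subgroup.card_subgroup_dvd_card K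
  have h64 : 64 ∣ Nat.card K := h5.card ▸ Subgroup.card_dvd_of_le hDK
  have hord : orderOf x = 5 := by
    haveI : Fact (Nat.Prime 5) := ⟨by norm_num⟩
    exact orderOf_eq_prime h.five fun he => h.notMem (he ▸ D.one_mem)
  have h55 : 5 ∣ Nat.card K := by
    rw [← hord, ← Subgroup.orderOf_mk x hxK]
    exact orderOf_dvd_natCard _
  have h320 : 64 * 5 ∣ Nat.card K := Nat.Coprime.mul_dvd_of_dvd_of_dvd (by norm_num) h64 h55
  exact Subgroup.eq_top_of_le_card K (by rw [h.card]; exact Nat.le_of_dvd Nat.card_pos h320)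

theorem Five.transport {D : Type u} [Group D] {φ : MulAut D} {D' : Type w} [Group D'] (h : Five D φ) (e : D ≃* D') :
    Five D' ((e.symm.trans φ).trans e) := by
  have hZ : ∀ g : D, g ∈ Subgroup.center D ↔ e g ∈ Subgroup.center D' := fun g => by
    rw [Subgroup.mem_center_iff, Subgroup.mem_center_iff]
    constructor
    · intro hh k
      obtain ⟨k, rfl⟩ := e.surjective k
      rw [← map_mul, hh k, map_mul]
    · intro hh k
      exact e.injective (by rw [map_mul, map_mul, hh])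
  refine ⟨by rw [← h.card]; exact (Nat.card_congr e.toEquiv).symm,
    by rw [← h.card_center]; exact (Nat.card_congr (Equiv.subtypeEquiv e.toEquiv hZ)).symm,
    fun g => ?_, fun z hz => ?_, ?_, fun g => ?_, fun z hz hz1 hall => ?_⟩
  · obtain ⟨g, rfl⟩ := e.surjective g
    rw [← map_mul, ← hZ]
    exact h.sq g
  · obtain ⟨z, rfl⟩ := e.surjective z
    rw [← map_mul, h.cen z ((hZ z).mpr hz), map_one]
  · have hpow : ∀ (i : ℕ) (g : D), (((e.symm.trans φ).trans e : MulAut D') ^ i) (e g) = e ((φ ^ i) g) := by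
      intro i
      induction i with
      | zero => intro g; rfl
      | succ i ih =>
        intro g
        rw [pow_succ', pow_succ', MulAut.mul_apply, MulAut.mul_apply, ih]
        simp
    refine MulEquiv.ext fun g => ?_
    obtain ⟨g, rfl⟩ := e.surjective g
    rw [hpow, h.five]
    rfl
  · obtain ⟨g, rfl⟩ := e.surjective g
    rw [← hZ, ← h.fix]
    simp
  · obtain ⟨z, rfl⟩ := e.surjective z
    refine h.spans z ((hZ z).mpr hz) (fun he => hz1 (by rw [he, map_one])) ⟨fun g => ?_, fun g k => ?_⟩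
    · rcases hall.1 (e g) with he | he
      · exact Or.inl (e.injective (by rw [map_mul, he, map_one]))
      · exact Or.inr (e.injective (by rw [map_mul, he]))
    · rcases hall.2 (e g) (e k) with he | he
      · exact Or.inl (e.injective (by rw [map_commutatorElement, he, map_one]))
      · exact Or.inr (e.injective (by rw [map_commutatorElement, he]))

theorem Ext.transport {G : Type u} [Group G] {G' : Type w} [Group G'] {D : Subgroup G} {x : G} (h : Ext G D x)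
    (Θ : G ≃* G') : Ext G' (D.map Θ.toMonoidHom) (Θ x) := by
  obtain ⟨φ, hφ, h5⟩ := h.hyp
  refine ⟨by rw [← h.card]; exact (Nat.card_congr Θ.toEquiv).symm, h.normal.map _ Θ.surjective,
    by rw [← map_pow, h.five, map_one], fun hh => h.notMem ?_, _, fun a => ?_,
    h5.transport (D.equivMapOfInjective Θ.toMonoidHom Θ.injective)⟩
  · obtain ⟨d, hd, he⟩ := hh
    exact Θ.injective he ▸ hd
  · obtain ⟨a, rfl⟩ := (D.equivMapOfInjective Θ.toMonoidHom Θ.injective).surjective a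
    simp only [MulEquiv.trans_apply, MulEquiv.symm_apply_apply, Subgroup.coe_equivMapOfInjective_apply]
    show Θ (φ a : G) = Θ x * Θ (a : G) * (Θ x)⁻¹
    rw [hφ, map_mul, map_mul, map_inv]

theorem Ext.iso {G : Type u} [Group G] [Finite G] {G' : Type w} [Group G'] [Finite G'] {D : Subgroup G}
    {D' : Subgroup G'} {x : G} {x' : G'} (h : Ext G D x) (h' : Ext G' D' x') : Nonempty (G ≃* G') := by
  classical
  obtain ⟨v₀, v₁, v₂, v₃, z₁, z₂, F⟩ := h.exists_gens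
  obtain ⟨v₀', v₁', v₂', v₃', z₁', z₂', F'⟩ := h'.exists_gens
  set X : G × G' := (x, x') with hX
  set p : G × G' := (z₁, z₁') with hp
  set q : G × G' := (z₂, z₂') with hq
  set A₀ : G × G' := (v₀, v₀') with hA₀
  set A₁ : G × G' := (v₁, v₁') with hA₁
  set A₂ : G × G' := (v₂, v₂') with hA₂
  set A₃ : G × G' := (v₃, v₃') with hA₃
  have pr : ∀ {a b : G × G'}, a.1 = b.1 → a.2 = b.2 → a = b := fun h1 h2 => Prod.ext h1 h2
  set S₁ : Set (G × G') := insert p ∅ with hS₁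
  set S₂ := insert q S₁ with hS₂
  set S₃ := insert A₀ S₂ with hS₃
  set S₄ := insert A₁ S₃ with hS₄
  set S₅ := insert A₂ S₄ with hS₅
  set S₆ := insert A₃ S₅ with hS₆
  have hp₂ : p ∈ Subgroup.closure S₂ := Subgroup.subset_closure (by simp [hS₂, hS₁])
  have hq₂ : q ∈ Subgroup.closure S₂ := Subgroup.subset_closure (by simp [hS₂])
  have m23 : Subgroup.closure S₂ ≤ Subgroup.closure S₃ := Subgroup.closure_mono (Set.subset_insert _ _)
  have m34 : Subgroup.closure S₃ ≤ Subgroup.closure S₄ := Subgroup.closure_mono (Set.subset_insert _ _)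
  have m45 : Subgroup.closure S₄ ≤ Subgroup.closure S₅ := Subgroup.closure_mono (Set.subset_insert _ _)
  have hpq₂ : p * q ∈ Subgroup.closure S₂ := mul_mem hp₂ hq₂
  have b₁ : Nat.card (Subgroup.closure S₁) ≤ 2 := by
    refine (card_closure_insert (S := ∅) ?_ fun s hs => absurd hs (Set.notMem_empty s)).trans ?_
    · rw [show p * p = 1 from pr F.z₁sq F'.z₁sq]; exact one_mem _
    · rw [Subgroup.closure_empty, Subgroup.card_bot]
  have b₂ : Nat.card (Subgroup.closure S₂) ≤ 4 := by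
    refine (card_closure_insert (S := S₁) ?_ ?_).trans (by omega)
    · rw [show q * q = 1 from pr F.z₂sq F'.z₂sq]; exact one_mem _
    · rintro s (rfl | hs)
      · rw [show ⁅q, p⁆ = 1 from pr (F.z₁c z₂ (by simp)) (F'.z₁c z₂' (by simp))]; exact one_mem _
      · exact absurd hs (Set.notMem_empty s)
  have b₃ : Nat.card (Subgroup.closure S₃) ≤ 8 := by
    refine (card_closure_insert (S := S₂) ?_ ?_).trans (by omega)
    · rw [show A₀ * A₀ = p from pr F.s₀ F'.s₀]; exact hp₂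
    · rintro s (rfl | rfl | hs)
      · rw [show ⁅A₀, q⁆ = 1 from pr (F.z₂c v₀ (by simp)) (F'.z₂c v₀' (by simp))]; exact one_mem _
      · rw [show ⁅A₀, p⁆ = 1 from pr (F.z₁c v₀ (by simp)) (F'.z₁c v₀' (by simp))]; exact one_mem _
      · exact absurd hs (Set.notMem_empty s)
  have b₄ : Nat.card (Subgroup.closure S₄) ≤ 16 := by
    refine (card_closure_insert (S := S₃) ?_ ?_).trans (by omega)
    · rw [show A₁ * A₁ = p from pr F.s₁ F'.s₁]; exact m23 hp₂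
    · rintro s (rfl | rfl | rfl | hs)
      · rw [show ⁅A₁, A₀⁆ = q from pr F.c₁₀ F'.c₁₀]; exact m23 hq₂
      · rw [show ⁅A₁, q⁆ = 1 from pr (F.z₂c v₁ (by simp)) (F'.z₂c v₁' (by simp))]; exact one_mem _
      · rw [show ⁅A₁, p⁆ = 1 from pr (F.z₁c v₁ (by simp)) (F'.z₁c v₁' (by simp))]; exact one_mem _
      · exact absurd hs (Set.notMem_empty s)
  have b₅ : Nat.card (Subgroup.closure S₅) ≤ 32 := by
    refine (card_closure_insert (S := S₄) ?_ ?_).trans (by omega)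
    · rw [show A₂ * A₂ = p from pr F.s₂ F'.s₂]; exact m34 (m23 hp₂)
    · rintro s (rfl | rfl | rfl | rfl | hs)
      · rw [show ⁅A₂, A₁⁆ = q from pr F.c₂₁ F'.c₂₁]; exact m34 (m23 hq₂)
      · rw [show ⁅A₂, A₀⁆ = p * q from pr F.c₂₀ F'.c₂₀]; exact m34 (m23 hpq₂)
      · rw [show ⁅A₂, q⁆ = 1 from pr (F.z₂c v₂ (by simp)) (F'.z₂c v₂' (by simp))]; exact one_mem _
      · rw [show ⁅A₂, p⁆ = 1 from pr (F.z₁c v₂ (by simp)) (F'.z₁c v₂' (by simp))]; exact one_mem _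
      · exact absurd hs (Set.notMem_empty s)
  have b₆ : Nat.card (Subgroup.closure S₆) ≤ 64 := by
    refine (card_closure_insert (S := S₅) ?_ ?_).trans (by omega)
    · rw [show A₃ * A₃ = p from pr F.s₃ F'.s₃]; exact m45 (m34 (m23 hp₂))
    · rintro s (rfl | rfl | rfl | rfl | rfl | hs)
      · rw [show ⁅A₃, A₂⁆ = q from pr F.c₃₂ F'.c₃₂]; exact m45 (m34 (m23 hq₂))
      · rw [show ⁅A₃, A₁⁆ = p * q from pr F.c₃₁ F'.c₃₁]; exact m45 (m34 (m23 hpq₂))
      · rw [show ⁅A₃, A₀⁆ = p * q from pr F.c₃₀ F'.c₃₀]; exact m45 (m34 (m23 hpq₂))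
      · rw [show ⁅A₃, q⁆ = 1 from pr (F.z₂c v₃ (by simp)) (F'.z₂c v₃' (by simp))]; exact one_mem _
      · rw [show ⁅A₃, p⁆ = 1 from pr (F.z₁c v₃ (by simp)) (F'.z₁c v₃' (by simp))]; exact one_mem _
      · exact absurd hs (Set.notMem_empty s)
  set L := Subgroup.closure S₆ with hL
  have m₀ : A₀ ∈ L := Subgroup.subset_closure (by simp [hS₆, hS₅, hS₄, hS₃])
  have m₁ : A₁ ∈ L := Subgroup.subset_closure (by simp [hS₆, hS₅, hS₄])
  have m₂ : A₂ ∈ L := Subgroup.subset_closure (by simp [hS₆, hS₅])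
  have m₃ : A₃ ∈ L := Subgroup.subset_closure (by simp [hS₆])
  have mp : p ∈ L := Subgroup.subset_closure (by simp [hS₆, hS₅, hS₄, hS₃, hS₂, hS₁])
  have mq : q ∈ L := Subgroup.subset_closure (by simp [hS₆, hS₅, hS₄, hS₃, hS₂])
  have hXL : Subgroup.zpowers X ≤ Subgroup.normalizer (L : Set (G × G')) := by
    rw [Subgroup.zpowers_le]
    have hle : L ≤ L.comap (MulAut.conj X).toMonoidHom := by
      rw [hL, Subgroup.closure_le]
      rintro s (rfl | rfl | rfl | rfl | rfl | rfl | hs)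
      · show X * A₃ * X⁻¹ ∈ L
        rw [show X * A₃ * X⁻¹ = (A₀ * A₁ * A₂ * A₃)⁻¹ from pr F.e₄ F'.e₄]
        exact L.inv_mem (L.mul_mem (L.mul_mem (L.mul_mem m₀ m₁) m₂) m₃)
      · show X * A₂ * X⁻¹ ∈ L; rw [show X * A₂ * X⁻¹ = A₃ from pr F.e₃ F'.e₃]; exact m₃
      · show X * A₁ * X⁻¹ ∈ L; rw [show X * A₁ * X⁻¹ = A₂ from pr F.e₂ F'.e₂]; exact m₂
      · show X * A₀ * X⁻¹ ∈ L; rw [show X * A₀ * X⁻¹ = A₁ from pr F.e₁ F'.e₁]; exact m₁
      · show X * q * X⁻¹ ∈ L; rw [show X * q * X⁻¹ = q from pr F.ez₂ F'.ez₂]; exact mq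
      · show X * p * X⁻¹ ∈ L; rw [show X * p * X⁻¹ = p from pr F.ez₁ F'.ez₁]; exact mp
      · exact absurd hs (Set.notMem_empty s)
    have hmap : L.map (MulAut.conj X).toMonoidHom = L :=
      Subgroup.eq_of_le_of_card_ge (Subgroup.map_le_iff_le_comap.mpr hle)
        (Subgroup.card_map_of_injective (MulAut.conj X).injective).ge
    rw [Subgroup.mem_normalizer_iff]
    intro a
    constructor
    · exact fun ha => hle ha
    · intro ha
      rw [← hmap] at ha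
      obtain ⟨b, hb, hbe⟩ := ha
      exact mul_left_cancel (mul_right_cancel hbe) ▸ hb
  set M := L ⊔ Subgroup.zpowers X with hM
  have hXord : orderOf X ≤ 5 := Nat.le_of_dvd (by norm_num) (orderOf_dvd_of_pow_eq_one (pr F.x5 F'.x5))
  have hMcard : Nat.card M ≤ 320 := by
    have hsur : Function.Surjective (fun a : L × Subgroup.zpowers X =>
        (⟨a.1.1 * a.2.1, Subgroup.mul_mem_sup a.1.2 a.2.2⟩ : M)) := fun m => by
      obtain ⟨l, hl, a, ha, he⟩ := CfsgLib.mem_sup_of_le_normalizer hXL m.2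
      exact ⟨(⟨l, hl⟩, ⟨a, ha⟩), Subtype.ext he⟩
    refine (Nat.card_le_card_of_surjective _ hsur).trans ?_
    rw [Nat.card_prod, Nat.card_zpowers]
    exact Nat.mul_le_mul b₆ hXord
  let f : M →* G := (MonoidHom.fst G G').comp M.subtype
  let g : M →* G' := (MonoidHom.snd G G').comp M.subtype
  have hM₀ : X ∈ M := Subgroup.mem_sup_right (Subgroup.mem_zpowers X)
  have hf : Function.Surjective f := MonoidHom.range_eq_top.mp (by
    rw [eq_top_iff, ← F.gen, Subgroup.closure_le]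
    rintro a (rfl | rfl | rfl | rfl | rfl)
    exacts [⟨⟨X, hM₀⟩, rfl⟩, ⟨⟨A₀, Subgroup.mem_sup_left m₀⟩, rfl⟩, ⟨⟨A₁, Subgroup.mem_sup_left m₁⟩, rfl⟩,
      ⟨⟨A₂, Subgroup.mem_sup_left m₂⟩, rfl⟩, ⟨⟨A₃, Subgroup.mem_sup_left m₃⟩, rfl⟩])
  have hg : Function.Surjective g := MonoidHom.range_eq_top.mp (by
    rw [eq_top_iff, ← F'.gen, Subgroup.closure_le]
    rintro a (rfl | rfl | rfl | rfl | rfl)
    exacts [⟨⟨X, hM₀⟩, rfl⟩, ⟨⟨A₀, Subgroup.mem_sup_left m₀⟩, rfl⟩, ⟨⟨A₁, Subgroup.mem_sup_left m₁⟩, rfl⟩,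
      ⟨⟨A₂, Subgroup.mem_sup_left m₂⟩, rfl⟩, ⟨⟨A₃, Subgroup.mem_sup_left m₃⟩, rfl⟩])
  have hfb : Function.Bijective f := (Nat.bijective_iff_surjective_and_card f).mpr
    ⟨hf, le_antisymm (hMcard.trans h.card.ge) (Nat.card_le_card_of_surjective f hf)⟩
  have hgb : Function.Bijective g := (Nat.bijective_iff_surjective_and_card g).mpr
    ⟨hg, le_antisymm (hMcard.trans h'.card.ge) (Nat.card_le_card_of_surjective g hg)⟩
  exact ⟨(MulEquiv.ofBijective f hfb).symm.trans (MulEquiv.ofBijective g hgb)⟩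

end CfsgLib.UnitaryCent
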